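import Cfsg.Agent.Lib.Mult.Glue
import Cfsg.Agent.Lib.Grp.J3.Main

set_option autoImplicit false
set_option maxRecDepth 100000
set_option Elab.async false

namespace Cfsg.Agent.Mult.J3

open Cfsg.Agent.CG Cfsg.Agent.CG.J3

noncomputable def p2T : ℕ := 0x1c0300700c01c0300700c01c0300700c01c030000000000000600c0180300600c0f80600600c018030000000000000700c0f40603d0180d4061f5024014030000000000000000001c030340180100303c018010030000000000000000000000000003eac0c00300c00c030000000000000000000000000000010031e2024008030000000000000000000000000000000000000000040300000000000000000000000000000000000000000000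
noncomputable def p2q1 : ℕ := 0x7006003001007006005004011
noncomputable def p2q2 : ℕ := 0x1abb190071a10071111f4035011
noncomputable def p2NF : ℕ := 0x80002000000000000000000000000000000000000000000000000000000000000000000000000000000000000000000000000000000000000000000000000000000000000000000000000000000000000000000000000000000000000000000000000000000000000000000000000000000000000000000000000000000000000000000000000000000000000000000000000000000000000000000000000000000000000000000000000000000000000000000000000000000000000000000000000000000000000000000000010000000000000000000000000000000000000000000000000000000000000000000000000000000000000000000000000000000002000000000000000000000000000010000000000000002000000000000000000000080400010000000000000000010000400000000000000000000000000000000000000000000000000000000000000000000000000000000000000000000000000000000000002000000000000000000010000000000000000000000000000000000000000000000080000000000000000000000000000000000000000000000000000000000000000000000000000000000000000000000000000000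00000000000008000000000000000000000001000000000000000000000000200000000000000000000000000000000000000000000000000000000000000000000000000000000000000000000000000000000000000000000000000000000000000000000000000000000000000040000000000000000000000008000000000000000000000000000000000000000000000000000000000000000000000000000000000000000000000000000000000000000000000000000000000000000000000000000000000000000000000000000000000000040000000000000000000000000000000000000000000000000000000000000000000000000000000000000000000000000000000000000000000000000000000000000000000000000000000000000000000000000000000000000000000000000000000000000000000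
noncomputable def p2mNF : ℕ := 0x3ffffffffffffffffffffff
noncomputable def p2gv : ℕ := 0x8000200000040000000000000000000000008000001000000000000000200008000000000040201000000200000000200000000000000000200000000000000000000
noncomputable def p2mgv : ℕ := 0x3ffffffffffffffffffffff
noncomputable def p2av : ℕ := 0x1008000000000000000000000000000040000000040001008000001000000000000040000000000000000000000000000000000000000000000000000000000000000000000000000000000000000000000000000000
noncomputable def p2mav : ℕ := 0x3ffffffffffffffffffffff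
noncomputable def p2mu : ℕ := 0x555000000000000455555455100555000000000000415000000415000000000000000001000004000000000000000000000000000000000000000000000405000000000000000000000000000
noncomputable def p2om : ℕ := 0x0
noncomputable def p2tm : ℕ := 0x96596595c9659651430811c41a594930828e2e59654cd5154a59659504403e59659656da6659659659585e59659659655a5965965965965
noncomputable def p2par : ℕ := 0xd9a32488895a8d0ac
noncomputable def p2z : Desc := ⟨0,0,0,0,[],[]⟩
noncomputable def p2ds : Tr Desc := (.node (.node (.node (.node (.node (.node (.node (.leaf p2z) (.leaf p2z)) (.leaf p2z)) (.node (.leaf p2z) (.leaf p2z))) (.node (.node (.node (.leaf p2z) (.leaf p2z)) (.leaf p2z)) (.node (.leaf p2z) (.leaf p2z)))) (.node (.node (.node (.node (.leaf p2z) (.leaf ⟨2,0,0,0,[1,1],[4]⟩)) (.leaf ⟨1,0x2,1,1,[],[]⟩)) (.node (.leaf p2z) (.leaf ⟨1,0x6,2,2,[],[]⟩))) (.node (.node (.leaf p2z) (.leaf ⟨0,0,0,0,[],[]⟩)) (.node (.leaf p2z) (.leaf ⟨1,0x4,4,4,[],[]⟩))))) (.node (.node (.node (.node (.node (.leaf p2z) (.leaf p2z)) (.leaf ⟨1,0x2,2,2,[],[]⟩)) (.node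 (.leaf ⟨0,6,0,0,[],[]⟩) (.leaf ⟨1,0x5,2,2,[],[]⟩))) (.node (.node (.leaf p2z) (.leaf ⟨1,0x3,2,2,[],[]⟩)) (.node (.leaf ⟨0,8,0,0,[],[]⟩) (.leaf ⟨1,0x4,4,2,[],[]⟩)))) (.node (.node (.node (.node (.leaf p2z) (.leaf p2z)) (.leaf p2z)) (.node (.leaf p2z) (.leaf ⟨1,0x4,4,3,[],[]⟩))) (.node (.node (.leaf p2z) (.leaf p2z)) (.node (.leaf p2z) (.leaf ⟨1,0x6,4,4,[],[]⟩)))))) (.node (.node (.node (.node (.node (.node (.leaf p2z) (.leaf p2z)) (.leaf ⟨0,1,0,0,[],[]⟩)) (.node (.leaf ⟨0,5,0,0,[],[]⟩) (.leaf ⟨1,0x5,1,1,[],[]⟩))) (.node (.node (.node (.leaf ⟨0,4,0,0,[],[]⟩) (.leaf p2z)) (.leaf ⟨1,0x3,2,1,[],[]⟩)) (.node (.leaf ⟨0,7,0,0,[],[]⟩) (.leaf ⟨1,0x4,1,1,[],[]⟩)))) (.node (.node (.node (.node (.leaf p2z) (.leaf p2z)) (.leaf p2z)) (.node (.leaf p2z) (.leaf ⟨1,0x5,5,2,[],[]⟩))) (.node (.node (.leaf p2z) (.leaf ⟨0,3,0,0,[],[]⟩)) (.node (.leaf p2z) (.leaf ⟨1,0x5,5,5,[],[]⟩))))) (.node (.node (.node (.node (.node (.leaf p2z) (.leaf p2z)) (.leaf ⟨0,2,0,0,[],[]⟩)) (.node (.leaf p2z) (.leaf ⟨1,0x4,3,3,[],[]⟩))) (.node (.node (.leaf p2z) (.leaf ⟨1,0x3,3,2,[],[]⟩))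 (.node (.leaf ⟨0,9,0,0,[],[]⟩) (.leaf ⟨1,0x5,3,3,[],[]⟩)))) (.node (.node (.node (.node (.leaf p2z) (.leaf p2z)) (.leaf p2z)) (.node (.leaf p2z) (.leaf p2z))) (.node (.node (.leaf p2z) (.leaf p2z)) (.node (.leaf p2z) (.leaf ⟨1,0x6,6,2,[],[]⟩)))))))
noncomputable def p2rd : Tr Desc := (.node (.node (.node (.leaf ⟨2,1,0,0,[1,1],[]⟩) (.leaf ⟨2,0,0,0,[3,1],[1,3]⟩)) (.leaf ⟨2,0,0,0,[3,3],[]⟩)) (.node (.node (.leaf ⟨2,1,0,0,[1,0],[0,1]⟩) (.leaf ⟨2,1,0,0,[2,2],[]⟩)) (.leaf ⟨2,0,0,0,[2,1],[1,2,4]⟩)))
noncomputable def D2 : Dat where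
  p := 2
  q := 2
  n1 := 8
  b := 3
  fl := 4
  ew := 22
  T := p2T
  w := 10
  fuel := 41
  nf := 2
  cm := 5
  q1 := fun x => look 0xfff p2q1 (Nat.mul 12 x)
  q2 := fun x => look 0xfff p2q2 (Nat.mul 12 x)
  NV := 74
  d := 10
  w2 := 9
  NF := fun x => look p2mNF p2NF (Nat.mul 90 x)
  tm := fun x => look 0x3f p2tm (Nat.mul 6 x)
  TM := 37
  par := fun x => look 0x7f p2par (Nat.mul 7 x)
  ds := fun x => p2ds.get x
  r := 6
  s0 := 0
  gv := fun x => look p2mgv p2gv (Nat.mul 90 x)
  rd := fun x => p2rd.get x
  av := fun x => look p2mav p2av (Nat.mul 90 x)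
  mw := 2
  mu := fun x => look 0xfff p2mu (Nat.mul 12 x)
  ms := []
  om := fun x => look 0xfff p2om (Nat.mul 12 x)
noncomputable def p2w1 : List (List ℕ) := [[29,51,26,24,36,31],
  [49,17,3,27,42,30],
  [51,1,0,36,27,24,37,32,37],
  [9,18,26,25,36,32,35],
  [31,28,4,29,25,32,30],
  [45,51,9,24,26,36,30,35,37],
  [32,18,6,32,26,24,34,31,35,37],
  [23,19,18,35,24,24,36,32,35],
  [49,12,2,53,26,25,30,37]]
noncomputable def p2w2 : List (List ℕ) := [[1],
  [2],
  [3],
  [4],
  [5],
  [6],
  [7]]
noncomputable def p2L0c : ℕ := 0xd8fe3e761f338a67cbb62044c0d729212421a252d02c4e990a0e10a4b6924630ffb4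
noncomputable def p2L0p : ℕ := 0x380018000a0004000180008000200000001800080002000000008000000000000
noncomputable def p2L0l : ℕ := 0x100008000400020001000080004000200020001000080004000280014000e0000
noncomputable def p2L0q : ℕ := 0x8001200000000000200000000e000780030000000000000000000000000000000001400140000000680000000200000001800000000000000000001c0000000000000000000160006000000000000000000000000100000000000000000000000000
noncomputable def p2L1c : ℕ := 0x296804344
noncomputable def p2L1p : ℕ := 0x0
noncomputable def p2L1l : ℕ := 0x60000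
noncomputable def p2L1q : ℕ := 0x400000000
noncomputable def p2L2c : ℕ := 0x2c4e990a0
noncomputable def p2L2p : ℕ := 0x0
noncomputable def p2L2l : ℕ := 0x20000
noncomputable def p2L2q : ℕ := 0x40000000000000000000000000
noncomputable def p2L3c : ℕ := 0x226176c4
noncomputable def p2L3p : ℕ := 0x0
noncomputable def p2L3l : ℕ := 0xc0000
noncomputable def p2L3q : ℕ := 0x400000000
noncomputable def p2L : List Lvl := [mkLvl 65460 [7,5,4,2] 16 17 p2L0c p2L0p p2L0l 47 p2L0q,
  mkLvl 17220 [3] 2 17 p2L1c p2L1p p2L1l 3 p2L1q,
  mkLvl 102560 [1] 2 17 p2L2c p2L2p p2L2l 7 p2L2q,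
  mkLvl 95940 [6] 2 17 p2L3c p2L3p p2L3l 3 p2L3q]

theorem p2c0 : okcb 6156 20 (bases p2L) = true := by decide +kernel
theorem p2c1 : D2.chkNum 0 7 50232960 p2w2 p2L = true := by decide +kernel
theorem p2c2 : headAll (appW (appW app p2w1) p2w2) p2L [] = true := by decide +kernel
theorem p2c3 : allL (fun l => l.chk (appW (appW app p2w1) p2w2) 1 (l.N - 1)) p2L = true := by decide +kernel
theorem p2c4 : D2.chkPc (appW app p2w1) bs 0 64 = true := by decide +kernel
theorem p2c5 : D2.chkFus (appW app p2w1) bs 0 10 = true := by decide +kernel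
theorem p2c6 : D2.chkHead = true := by decide +kernel
theorem p2c7 : D2.chkVars 0 74 = true := by decide +kernel
theorem p2c8 : D2.chkRhos 0 6 = true := by decide +kernel
theorem p2c9 : D2.chkEnts 0 64 = true := by decide +kernel

theorem pb2 : PB PG 2 [] :=
  Dat.pbA (D := D2) base card (by norm_num : Nat.Prime 2) (okc_of_okcb p2c0) p2c1 p2c2 p2c3
    p2c4
    p2c5
    p2c6 p2c7
    p2c8
    p2c9

end Cfsg.Agent.Mult.J3
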